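import Groth.Agent.Lib.AmpleFib.GenProd
import Groth.Agent.Lib.CurveCoh17.Equality
import Groth.Agent.Lib.VeryAmple11.TsecRules
import Groth.Agent.Lib.KFlat.FinLocFree
import Groth.Agent.Lib.Snapper.Vanish

/-!
# Multiplication of sections of a globally generated invertible module in dimension one
-/

universe u

open CategoryTheory Limits AlgebraicGeometry TopologicalSpace Opposite

set_option linter.style.haveILetI false
set_option backward.isDefEq.respectTransparency false

attribute [local instance] Abelian.hasFiniteBiproducts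

namespace Groth.Agent.CurveCM

open Groth.Agent.M1 Groth.Agent.M2 Groth.Agent.VA11 Groth.Agent.CurveCoh17

variable {X : Scheme.{u}} {A F : X.Modules}

/-- Multiplication by a global section. -/
noncomputable def mulR (F : X.Modules) (s : Γ(A, (⊤ : X.Opens))) : F ⟶ CohB1.tensorMod F A :=
  (tensorRUnit F).inv ≫ tensorMap (𝟙 F) (secHom s)

theorem mulR_app (s : Γ(A, (⊤ : X.Opens))) {U : X.Opens} (y : Γ(F, U)) :
    (mulR F s).app U y = tsec F A y (mres A le_top s) := by
  have h1 : (tensorRUnit F).inv.app U y = tsec F (Coh.structureModule X) y (M1.one U) := by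
    have h := congrArg ((tensorRUnit F).inv.app U) (tensorRUnit_tsec F y (M1.one U))
    rw [show (show Γ(X, U) from M1.one U) = 1 from rfl, one_smul, ← ConcreteCategory.comp_apply,
      ← Scheme.Modules.Hom.comp_app, Iso.hom_inv_id] at h
    exact h.symm
  rw [mulR, Scheme.Modules.Hom.comp_app, CategoryTheory.comp_apply, h1, tensorMap_tsec]
  refine congrArg (tsec F A y) ?_
  rw [← M1.mres_one (le_top : U ≤ ⊤), M1.app_mres, secHom_app_one]

/-- Near a point generators of two invertible modules. -/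
theorem exists_gens (hA : PicF.IsInvertible A) (hF : PicF.IsInvertible F) {x : X} {U : X.Opens} (hx : x ∈ U) :
    ∃ (W : X.Opens) (f : Γ(F, W)) (g : Γ(A, W)), x ∈ W ∧ W ≤ U ∧ IsGenerator f ∧ IsGenerator g := by
  obtain ⟨U₁, f, hx1, h1, -, hf⟩ := Amp.exists_isGenerator hF hx
  obtain ⟨W, g, hxW, hW, -, hg⟩ := Amp.exists_isGenerator hA hx1
  exact ⟨W, res F hW f, g, hxW, hW.trans h1, Amp.isGenerator_res hW hf, hg⟩

/-- Multiplications by two sections commute. -/
theorem mulR_comm (hA : PicF.IsInvertible A) (hF : PicF.IsInvertible F) (s t : Γ(A, (⊤ : X.Opens))) :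
    mulR F s ≫ mulR _ t = mulR F t ≫ mulR _ s := by
  refine Scheme.Modules.hom_ext _ _ fun U => ?_
  ext y
  change (mulR _ t).app U ((mulR F s).app U y) = (mulR _ s).app U ((mulR F t).app U y)
  rw [mulR_app, mulR_app, mulR_app, mulR_app]
  refine Amp.eq_of_gm fun x hx => ?_
  obtain ⟨W, f, g, hxW, hWU, hf, hg⟩ := exists_gens hA hF hx
  rw [← Amp.gm_res hWU hxW, ← Amp.gm_res hWU hxW]
  refine congrArg (Amp.gm _ x hxW) ?_
  obtain ⟨a, ha⟩ := Amp.exists_coeff hg (res A (le_top : W ≤ ⊤) s)
  obtain ⟨b, hb⟩ := Amp.exists_coeff hg (res A (le_top : W ≤ ⊤) t)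
  rw [res_tsec, res_tsec, res_tsec, res_tsec, Amp.res_res, Amp.res_res, ← ha, ← hb]
  simp only [tsec_smul_left, tsec_smul_right, smul_smul]
  rw [mul_comm]

/-- The multiplication by a generating section is locally bijective. -/
theorem mulR_bijective_near (hA : PicF.IsInvertible A) (hF : PicF.IsInvertible F) (s : Γ(A, (⊤ : X.Opens)))
    {x : X} (hxs : x ∈ gl s) {U : X.Opens} (hx : x ∈ U) :
    ∃ W : X.Opens, x ∈ W ∧ W ≤ U ∧ ∀ V ≤ W, Function.Bijective ((mulR F s).app V) := by
  obtain ⟨U₁, f, hx1, h1, -, hf⟩ := Amp.exists_isGenerator hF (V := U ⊓ gl s) (x := x) ⟨hx, hxs⟩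
  refine ⟨U₁, hx1, h1.trans inf_le_left, fun V hV => ?_⟩
  have hfV : ∀ y (hy : y ∈ V), y ∈ gl (res F hV f) ⊓ gl (mres A (le_top : V ≤ ⊤) s) := fun y hy => by
    refine ⟨le_gl le_rfl ?_ hy, ?_⟩
    · intro V' hV'
      simp only [M1.mres_id]
      exact Amp.isGenerator_res hV hf V' hV'
    · rw [gl_mres]; exact ⟨(h1.trans inf_le_right) (hV hy), hy⟩
  let p := tsec F A (res F hV f) (mres A (le_top : V ≤ ⊤) s)
  have hle : V ≤ gl p := fun y hy => (gl_prodSec hF hA _ _).ge (hfV y hy)
  have hgen := isGen_of_le_gl hle V le_rfl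
  simp only [M1.mres_id] at hgen
  have hfb := Amp.isGenerator_res hV hf V le_rfl
  have key : ∀ r : Γ(X, V), (mulR F s).app V (r • res F hV f) = r • p := fun r => by
    rw [mulR_app, tsec_smul_left]
  refine ⟨fun a b hab => ?_, fun c => ?_⟩
  · obtain ⟨ra, rfl⟩ := hfb.2 a
    obtain ⟨rb, rfl⟩ := hfb.2 b
    simp only [Amp.res_self] at hab ⊢
    rw [key, key] at hab
    rw [hgen.1 hab]
  · obtain ⟨r, hr⟩ := hgen.2 c
    exact ⟨r • res F hV f, (key r).trans hr⟩

section SeqMaps

variable {r : ℕ} (s : Fin r → Γ(A, (⊤ : X.Opens))) (F)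

/-- The sum of multiplications. -/
noncomputable def psi : (⨁ fun _ : Fin r => F) ⟶ CohB1.tensorMod F A := biproduct.desc fun i => mulR F (s i)

/-- The trivial relations between the sections. -/
noncomputable def rel : (⨁ fun _ : Fin (r * r) => F) ⟶ ⨁ fun _ : Fin r => CohB1.tensorMod F A :=
  biproduct.desc fun q => mulR F (s (finProdFinEquiv.symm q).1) ≫ biproduct.ι (fun _ : Fin r => CohB1.tensorMod F A) (finProdFinEquiv.symm q).2 -
    mulR F (s (finProdFinEquiv.symm q).2) ≫ biproduct.ι (fun _ : Fin r => CohB1.tensorMod F A) (finProdFinEquiv.symm q).1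

variable {F}

theorem rel_psi (hA : PicF.IsInvertible A) (hF : PicF.IsInvertible F) :
    rel F s ≫ psi (CohB1.tensorMod F A) s = 0 := biproduct.hom_ext' _ _ fun q => by
  simp only [rel, psi, biproduct.ι_desc_assoc, Preadditive.sub_comp, Category.assoc, biproduct.ι_desc, comp_zero]
  rw [mulR_comm hA hF, sub_self]

theorem app_sum {ι' : Type*} (t : Finset ι') {M N : X.Modules} (φ : ι' → (M ⟶ N)) {W : X.Opens} (z : Γ(M, W)) :
    (∑ i ∈ t, φ i).app W z = ∑ i ∈ t, (φ i).app W z := by
  induction t using Finset.cons_induction with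
  | empty => simp
  | cons a t ha ih => simp [Finset.sum_cons, ih]

theorem sections_ext {W : X.Opens} {G : Fin r → X.Modules} (a b : Γ(⨁ G, W))
    (h : ∀ k, (biproduct.π G k).app W a = (biproduct.π G k).app W b) : a = b := by
  have key : ∀ z : Γ(⨁ G, W), z = ∑ k, (biproduct.ι G k).app W ((biproduct.π G k).app W z) := fun z => by
    have := congrArg (fun φ : ⨁ G ⟶ ⨁ G => φ.app W z) (biproduct.total (f := G))
    rw [app_sum] at this
    exact this.symm
  rw [key a, key b]
  simp only [h]

/-- Where one of the sections generates the trivial relations give all relations. -/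
theorem exists_rel_near (hA : PicF.IsInvertible A) (hF : PicF.IsInvertible F) {x : X} {i₀ : Fin r}
    (hi : x ∈ gl (s i₀)) {U : X.Opens} (hx : x ∈ U) :
    ∃ W : X.Opens, x ∈ W ∧ W ≤ U ∧ ∀ b : Γ(⨁ fun _ : Fin r => CohB1.tensorMod F A, W),
      (psi (CohB1.tensorMod F A) s).app W b = 0 → ∃ z, (rel F s).app W z = b := by
  classical
  obtain ⟨W₁, hx1, hW1, hb1⟩ := mulR_bijective_near hA hF (s i₀) hi hx
  obtain ⟨W, hxW, hW, hb2⟩ := mulR_bijective_near hA (M2.isInvertible_tensor hF hA) (s i₀) hi hx1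
  refine ⟨W, hxW, hW.trans hW1, fun b hb => ?_⟩
  choose y hy using fun j : Fin r => (hb1 W hW).2 ((biproduct.π (fun _ : Fin r => CohB1.tensorMod F A) j).app W b)
  let z : Γ(⨁ fun _ : Fin (r * r) => F, W) :=
    ∑ j, (biproduct.ι (fun _ : Fin (r * r) => F) (finProdFinEquiv (i₀, j))).app W (y j)
  have hcomp : ∀ k, k ≠ i₀ → (biproduct.π (fun _ : Fin r => CohB1.tensorMod F A) k).app W ((rel F s).app W z) =
      (biproduct.π (fun _ : Fin r => CohB1.tensorMod F A) k).app W b := fun k hk => by
    have e : ∀ j, biproduct.ι (fun _ : Fin (r * r) => F) (finProdFinEquiv (i₀, j)) ≫ rel F s ≫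
        biproduct.π (fun _ : Fin r => CohB1.tensorMod F A) k = if j = k then mulR F (s i₀) else 0 := fun j => by
      simp only [rel, biproduct.ι_desc_assoc, Equiv.symm_apply_apply, Preadditive.sub_comp, Category.assoc]
      rw [biproduct.ι_π_ne _ (Ne.symm hk), comp_zero, sub_zero]
      split
      · next h => subst h; rw [biproduct.ι_π_self, Category.comp_id]
      · next h => rw [biproduct.ι_π_ne _ h, comp_zero]
    simp only [z, map_sum]
    rw [Finset.sum_eq_single k]
    · rw [← hy k]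
      have := congrArg (fun φ => (φ : F ⟶ _).app W (y k)) (e k)
      simpa using this
    · intro j _ hj
      have := congrArg (fun φ => (φ : F ⟶ _).app W (y j)) (e j)
      simpa [hj] using this
    · exact fun h => absurd (Finset.mem_univ k) h
  refine ⟨z, ?_⟩
  have hd : (psi (CohB1.tensorMod F A) s).app W ((rel F s).app W z - b) = 0 := by
    rw [map_sub, hb, sub_zero, ← ConcreteCategory.comp_apply, ← Scheme.Modules.Hom.comp_app, rel_psi s hA hF]
    rfl
  refine sub_eq_zero.1 (sections_ext _ _ fun k => ?_)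
  rw [map_zero]
  have hne : ∀ k, k ≠ i₀ → (biproduct.π (fun _ : Fin r => CohB1.tensorMod F A) k).app W ((rel F s).app W z - b) = 0 :=
    fun k hk => by rw [map_sub, hcomp k hk, sub_self]
  rcases eq_or_ne k i₀ with rfl | hk
  · generalize (rel F s).app W z - b = d at hd hne ⊢
    have hdec := congrArg (fun φ => (φ : (⨁ fun _ : Fin r => CohB1.tensorMod F A) ⟶ _).app W d)
      (show psi (CohB1.tensorMod F A) s = ∑ j, biproduct.π (fun _ : Fin r => CohB1.tensorMod F A) j ≫
        mulR (CohB1.tensorMod F A) (s j) from biproduct.desc_eq)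
    simp only at hdec
    rw [hd] at hdec
    refine (hb2 W le_rfl).1 ?_
    rw [map_zero]
    refine Eq.trans ?_ hdec.symm
    rw [app_sum, Finset.sum_eq_single k]
    · rfl
    · intro j _ hj
      show (mulR (CohB1.tensorMod F A) (s j)).app W ((biproduct.π (fun _ : Fin r => CohB1.tensorMod F A) j).app W d) = 0
      rw [hne j hj, map_zero]
    · exact fun h => absurd (Finset.mem_univ k) h
  · exact hne k hk

theorem epi_psi (hA : PicF.IsInvertible A) (hF : PicF.IsInvertible F) (hs : ∀ x : X, ∃ i, x ∈ gl (s i)) :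
    Epi (psi F s) := by
  refine (M1.epi_iff_stalk _).2 fun x a => ?_
  obtain ⟨i, hi⟩ := hs x
  obtain ⟨U, hU, a', rfl⟩ := TopCat.Presheaf.germ_exist _ a
  obtain ⟨W, hxW, hWU, hb⟩ := mulR_bijective_near hA hF (s i) hi hU
  obtain ⟨y, hy⟩ := (hb W le_rfl).2 (res _ hWU a')
  refine ⟨(⨁ fun _ : Fin r => F).presheaf.germ W x hxW ((biproduct.ι (fun _ : Fin r => F) i).app W y), ?_⟩
  refine (germ_naturality (psi F s) W x hxW _).trans ?_
  rw [show (psi F s).app W ((biproduct.ι (fun _ : Fin r => F) i).app W y) =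
      (biproduct.ι (fun _ : Fin r => F) i ≫ psi F s).app W y from rfl, psi, biproduct.ι_desc, hy]
  exact Amp.gm_res hWU hxW a'

end SeqMaps

end Groth.Agent.CurveCM
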