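import Groth.Agent.Lib.CurveCM.Mul
import Groth.Agent.Lib.CurveCoh17.Section
import Groth.Agent.Lib.RelAmple18.Generated

/-!
# Products of sections span, in dimension at most one
-/

universe u

open CategoryTheory Limits AlgebraicGeometry TopologicalSpace Opposite

set_option linter.style.haveILetI false
set_option backward.isDefEq.respectTransparency false

attribute [local instance] Abelian.hasFiniteBiproducts

namespace Groth.Agent.CurveCM

open Groth.Agent.M1 Groth.Agent.M2 Groth.Agent.VA11 Groth.Agent.CurveCoh17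

variable {k : Type u} [Field k] {X : Scheme.{u}} [X.Over (Spec (CommRingCat.of k))]

theorem hmap_sum {ι' : Type*} (t : Finset ι') {M N : X.Modules} (φ : ι' → (M ⟶ N)) (n : ℕ) (x : Coh.HH X M n) :
    hmap k (∑ i ∈ t, φ i) n x = ∑ i ∈ t, hmap k (φ i) n x := by
  induction t using Finset.cons_induction with
  | empty => simp [hmap_zero]
  | cons a t ha ih => rw [Finset.sum_cons, Finset.sum_cons, ← ih]; exact hmap₀_add _ _ n x

variable (k) in
include k in
theorem subsingleton_HH_biproduct {r : ℕ} (G : Fin r → X.Modules) (n : ℕ) (h : ∀ i, Subsingleton (Coh.HH X (G i) n)) :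
    Subsingleton (Coh.HH X (⨁ G) n) := by
  refine subsingleton_of_forall_eq 0 fun x => ?_
  rw [← hmap_id k (⨁ G) n x, ← biproduct.total, hmap_sum]
  refine Finset.sum_eq_zero fun i _ => ?_
  rw [hmap_comp, (h i).elim (hmap k (biproduct.π G i) n x) 0, map_zero]

theorem isQCoh_biproduct {r : ℕ} {M : X.Modules} (hM : PicF.IsInvertible M) :
    Coh.IsQCoh (⨁ fun _ : Fin r => M) :=
  M2.isQCoh_of_isFinLocFree (KFlat.Sch.isFinLocFree_biproduct _ fun _ => M2.isFinLocFree_of_isInvertible hM)

/-- Finitely many sections generate a globally generated invertible module on a compact scheme. -/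
theorem exists_gens_fin [CompactSpace X] {A : X.Modules} (hA : PicF.IsInvertible A) (hgg : Curv2.IsGloballyGenerated A) :
    ∃ (r : ℕ) (s : Fin r → Γ(A, (⊤ : X.Opens))), ∀ x : X, ∃ i, x ∈ gl (s i) := by
  classical
  choose t ht using fun x => RA.exists_gen_of_isGloballyGenerated hA hgg x
  obtain ⟨T, hT⟩ := isCompact_univ.elim_finite_subcover (fun x : X => (gl (W := ⊤) (Amp.gval (t x)) : Set X))
    (fun x => (gl _).isOpen) fun x _ => Set.mem_iUnion.2 ⟨x, (gl_gval hA (t x)).ge (ht x)⟩
  refine ⟨T.card, fun i => Amp.gval (t (T.equivFin.symm i).1), fun x => ?_⟩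
  obtain ⟨y, hy, hxy⟩ := Set.mem_iUnion₂.1 (hT (Set.mem_univ x))
  exact ⟨T.equivFin ⟨y, hy⟩, by simpa using hxy⟩

variable [IsProper (X ↘ Spec (CommRingCat.of k))] (hdim : topologicalKrullDim X ≤ 1) {A F : X.Modules}
  (hA : PicF.IsInvertible A) (hF : PicF.IsInvertible F) {r : ℕ} (s : Fin r → Γ(A, (⊤ : X.Opens)))
  (hs : ∀ x : X, ∃ i, x ∈ gl (s i))

variable (k)

include k hdim hA hF hs

theorem subsingleton_h1_tensor (h : Subsingleton (Coh.HH X F 1)) :
    Subsingleton (Coh.HH X (CohB1.tensorMod F A) 1) := by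
  haveI := epi_psi s hA hF hs
  have hP := isQCoh_biproduct (r := r) hF
  have hK : Coh.IsQCoh (kernel (psi F s)) :=
    M1.isQCoh_kernel hP (Twist.isQCoh_of_isInvertible (M2.isInvertible_tensor hF hA)) _
  refine subsingleton_of_forall_eq 0 fun x => ?_
  have hT : (ShortComplex.mk (kernel.ι (psi F s)) (psi F s) (kernel.condition _)).ShortExact :=
    .mk' (ShortComplex.exact_of_f_is_kernel _ (kernelIsKernel _)) inferInstance inferInstance
  haveI := Snapper.subsingleton_HH_of_dim k 1 hdim hK (n := 1 + 1) (by omega)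
  obtain ⟨y, rfl⟩ := (exact_hmap_hdelta k hT 1 x).1 (Subsingleton.elim _ _)
  haveI := subsingleton_HH_biproduct k (fun _ : Fin r => F) 1 fun _ => h
  rw [Subsingleton.elim y 0, map_zero]

/-- Without first cohomology one step below, every section is a combination of products. -/
theorem exists_eq_sum_tsec (h : Subsingleton (Coh.HH X F 1))
    (t : Γ(CohB1.tensorMod (CohB1.tensorMod F A) A, (⊤ : X.Opens))) :
    ∃ y : Fin r → Γ(CohB1.tensorMod F A, (⊤ : X.Opens)), t = ∑ i, tsec _ A (y i) (s i) := by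
  have hFA := M2.isInvertible_tensor hF hA
  let ψ := psi (CohB1.tensorMod F A) s
  haveI : Epi ψ := epi_psi s hA hFA hs
  have hQ := isQCoh_biproduct (r := r) hFA
  have hK : Coh.IsQCoh (kernel ψ) :=
    M1.isQCoh_kernel hQ (Twist.isQCoh_of_isInvertible (M2.isInvertible_tensor hFA hA)) _
  let φ := kernel.lift ψ (rel F s) (rel_psi s hA hF)
  haveI : Epi φ := (M1.epi_iff_stalk _).2 fun x a => by
    obtain ⟨i, hi⟩ := hs x
    obtain ⟨U, hU, a', rfl⟩ := TopCat.Presheaf.germ_exist _ a
    obtain ⟨W, hxW, hWU, hW⟩ := exists_rel_near s hA hF hi hU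
    obtain ⟨z, hz⟩ := hW ((kernel.ι ψ).app W (res _ hWU a')) (by
      show (kernel.ι ψ ≫ ψ).app W (res _ hWU a') = 0
      rw [kernel.condition]; rfl)
    refine ⟨(⨁ fun _ : Fin (r * r) => F).presheaf.germ W x hxW z, ?_⟩
    refine (germ_naturality φ W x hxW z).trans ?_
    rw [show φ.app W z = res _ hWU a' from M1.app_injective (kernel.ι ψ) W (by
      rw [← hz, ← ConcreteCategory.comp_apply, ← Scheme.Modules.Hom.comp_app, kernel.lift_ι])]
    exact Amp.gm_res hWU hxW a'
  have hKφ : Coh.IsQCoh (kernel φ) := M1.isQCoh_kernel (isQCoh_biproduct (r := r * r) hF) hK _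
  have hTφ : (ShortComplex.mk (kernel.ι φ) φ (kernel.condition _)).ShortExact :=
    .mk' (ShortComplex.exact_of_f_is_kernel _ (kernelIsKernel _)) inferInstance inferInstance
  haveI hK1 : Subsingleton (Coh.HH X (kernel ψ) 1) := subsingleton_of_forall_eq 0 fun x => by
    haveI := Snapper.subsingleton_HH_of_dim k 1 hdim hKφ (n := 1 + 1) (by omega)
    obtain ⟨y, rfl⟩ := (exact_hmap_hdelta k hTφ 1 x).1 (Subsingleton.elim _ _)
    haveI := subsingleton_HH_biproduct k (fun _ : Fin (r * r) => F) 1 fun _ => h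
    rw [Subsingleton.elim y 0, map_zero]
  have hT : (ShortComplex.mk (kernel.ι ψ) ψ (kernel.condition _)).ShortExact :=
    .mk' (ShortComplex.exact_of_f_is_kernel _ (kernelIsKernel _)) inferInstance inferInstance
  obtain ⟨w, hw⟩ := (exact_hmap_hdelta k hT 0 ((hh0 _).symm t)).1 (@Subsingleton.elim _ hK1 _ _)
  refine ⟨fun i => (biproduct.π (fun _ : Fin r => CohB1.tensorMod F A) i).app ⊤ (hh0 _ w), ?_⟩
  have h2 := congrArg (hh0 _) hw
  rw [hh0_hmap, AddEquiv.apply_symm_apply] at h2
  rw [← h2]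
  show (psi (CohB1.tensorMod F A) s).app ⊤ _ = _
  rw [psi, biproduct.desc_eq, app_sum]
  refine Finset.sum_congr rfl fun i _ => ?_
  rw [Scheme.Modules.Hom.comp_app, CategoryTheory.comp_apply, mulR_app, M1.mres_id]

end Groth.Agent.CurveCM

namespace Groth.Agent.CurveCM

open Groth.Agent.M1 Groth.Agent.M2 Groth.Agent.VA11

variable (k : Type u) [Field k] {X : Scheme.{u}} [X.Over (Spec (CommRingCat.of k))]
  [IsProper (X ↘ Spec (CommRingCat.of k))] {A : X.Modules}

include k

/-- In dimension at most one, products with sections of a globally generated module span all higher degrees. -/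
theorem exists_eq_sum_pow (hdim : topologicalKrullDim X ≤ 1) (hA : PicF.IsInvertible A)
    (hgg : Curv2.IsGloballyGenerated A) (m : ℕ) (hm : Subsingleton (Coh.HH X (CohB1.tensorPow A m) 1))
    (p : ℕ) (hp : m ≤ p) :
    ∀ t : Γ(CohB1.tensorPow A (p + 2), (⊤ : X.Opens)), ∃ (r : ℕ)
      (y : Fin r → Γ(CohB1.tensorPow A (p + 1), (⊤ : X.Opens))) (s : Fin r → Γ(A, (⊤ : X.Opens))),
        t = ∑ i, SecTwist.tmul (CohB1.tensorPow A (p + 1)) A ⊤ (y i) (s i) := by
  haveI : CompactSpace X := QuasiCompact.compactSpace_of_compactSpace (X ↘ Spec (CommRingCat.of k))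
  obtain ⟨r, s, hs⟩ := exists_gens_fin hA hgg
  have hI := fun q => Amp.isInvertible_tensorPow hA q
  have hv : Subsingleton (Coh.HH X (CohB1.tensorPow A p) 1) := by
    induction p, hp using Nat.le_induction with
    | base => exact hm
    | succ q _ ih => exact subsingleton_h1_tensor k hdim hA (hI q) s hs ih
  intro t
  obtain ⟨y, hy⟩ := exists_eq_sum_tsec k hdim hA (hI p) s hs hv t
  exact ⟨r, y, s, hy⟩

end Groth.Agent.CurveCM
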